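import Cfsg.Agent.H717.Dickson
import Cfsg.Agent.Nodes.RGDFoldSL

/-!
# TEAM RV, row R5 exceptional, piece P4: `SL₂(3)` in `SL₂(F)` (helper836)

`a, b : F` with `a ^ 2 + b ^ 2 = -1`.

* `X3 h` : the subgroup `⟨i, j, w⟩ ≅ SL₂(3)`; `card_dvd`, `twelve_dvd`; `neg_one_mem`; `closure_order_six`,
  `closure_order_three`; `map_X3` (field embeddings);
* `eq_of_comm` : what commutes with `X3` is `±1`;
* `exists_conj_hS` : elements of order `6` are conjugate to `hS ζ`, `ζ ^ 2 - ζ + 1 = 0`, and `A ^ 3 = -1`;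
* `card_three_le` : `3`-subgroups of finite `p'`-subgroups containing `X3` have order at most `3`.
-/

set_option autoImplicit false

namespace Cfsg.Agent.H836.RV

open Matrix Cfsg.Agent.Nodes.RGDFoldSL

universe u v

abbrev SL (F : Type u) [Field F] := Matrix.SpecialLinearGroup (Fin 2) F

section Defs

variable {F : Type u} [Field F]

/-- the matrix `i` -/
def qi (F : Type u) [Field F] : SL F := ⟨!![0, 1; -1, 0], by rw [Matrix.det_fin_two_of]; ring⟩

/-- the matrix `j` -/
def qj {a b : F} (h : a ^ 2 + b ^ 2 = -1) : SL F :=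
  ⟨!![a, b; b, -a], by rw [Matrix.det_fin_two_of]; linear_combination -h⟩

/-- the matrix `w = -(1 + i + j + i j) / 2` of order `3` -/
def qw {a b : F} (h : a ^ 2 + b ^ 2 = -1) (h2 : (2 : F) ≠ 0) : SL F :=
  ⟨!![-(1 + a + b) / 2, -(1 + b - a) / 2; -(-1 + b - a) / 2, -(1 - a - b) / 2], by
    rw [Matrix.det_fin_two_of]
    field_simp
    linear_combination -2 * h⟩

theorem coe_qi : ((qi F : SL F) : Matrix (Fin 2) (Fin 2) F) = !![0, 1; -1, 0] := rfl

theorem coe_qj {a b : F} (h : a ^ 2 + b ^ 2 = -1) :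
    ((qj h : SL F) : Matrix (Fin 2) (Fin 2) F) = !![a, b; b, -a] := rfl

theorem coe_qw {a b : F} (h : a ^ 2 + b ^ 2 = -1) (h2 : (2 : F) ≠ 0) :
    ((qw h h2 : SL F) : Matrix (Fin 2) (Fin 2) F) =
      !![-(1 + a + b) / 2, -(1 + b - a) / 2; -(-1 + b - a) / 2, -(1 - a - b) / 2] := rfl

theorem ext' {A B : SL F} (h : (A : Matrix (Fin 2) (Fin 2) F) = B) : A = B := Subtype.ext h

theorem qi_sq : qi F * qi F = -1 := by
  apply ext'
  rw [Matrix.SpecialLinearGroup.coe_mul, Matrix.SpecialLinearGroup.coe_neg, Matrix.SpecialLinearGroup.coe_one, coe_qi]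
  ext x y
  fin_cases x <;> fin_cases y <;> simp [Matrix.mul_apply, Fin.sum_univ_two]

theorem qj_sq {a b : F} (h : a ^ 2 + b ^ 2 = -1) : qj h * qj h = -1 := by
  apply ext'
  rw [Matrix.SpecialLinearGroup.coe_mul, Matrix.SpecialLinearGroup.coe_neg, Matrix.SpecialLinearGroup.coe_one, coe_qj]
  ext x y
  fin_cases x <;> fin_cases y <;> simp [Matrix.mul_apply, Fin.sum_univ_two] <;>
    (first | ring1 | linear_combination h | linear_combination -h)

theorem qji {a b : F} (h : a ^ 2 + b ^ 2 = -1) : qj h * qi F = -(qi F * qj h) := by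
  apply ext'
  rw [Matrix.SpecialLinearGroup.coe_mul, Matrix.SpecialLinearGroup.coe_neg, Matrix.SpecialLinearGroup.coe_mul,
    coe_qj, coe_qi]
  ext x y
  fin_cases x <;> fin_cases y <;> simp [Matrix.mul_apply, Fin.sum_univ_two]

theorem qwi {a b : F} (h : a ^ 2 + b ^ 2 = -1) (h2 : (2 : F) ≠ 0) : qw h h2 * qi F = qj h * qw h h2 := by
  apply ext'
  rw [Matrix.SpecialLinearGroup.coe_mul, Matrix.SpecialLinearGroup.coe_mul, coe_qj, coe_qi, coe_qw]
  ext x y
  fin_cases x <;> fin_cases y <;> simp [Matrix.mul_apply, Fin.sum_univ_two] <;> field_simp <;>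
    (first | ring1 | linear_combination h | linear_combination -h)

theorem qwj {a b : F} (h : a ^ 2 + b ^ 2 = -1) (h2 : (2 : F) ≠ 0) :
    qw h h2 * qj h = qi F * qj h * qw h h2 := by
  apply ext'
  rw [Matrix.SpecialLinearGroup.coe_mul, Matrix.SpecialLinearGroup.coe_mul, Matrix.SpecialLinearGroup.coe_mul,
    coe_qj, coe_qi, coe_qw]
  ext x y
  fin_cases x <;> fin_cases y <;> simp [Matrix.mul_apply, Fin.sum_univ_two] <;> field_simp <;>
    (first | ring1 | linear_combination h | linear_combination -h)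

theorem qw_sq {a b : F} (h : a ^ 2 + b ^ 2 = -1) (h2 : (2 : F) ≠ 0) : qw h h2 * (qw h h2 * qw h h2) = 1 := by
  have h3 : ((qw h h2 : SL F) : Matrix (Fin 2) (Fin 2) F) * (qw h h2 : SL F) = -1 - (qw h h2 : SL F) := by
    rw [coe_qw]
    ext x y
    fin_cases x <;> fin_cases y <;> simp [Matrix.mul_apply, Fin.sum_univ_two] <;> field_simp <;>
      (first | ring1 | linear_combination 2 * h | linear_combination -2 * h)
  apply ext'
  rw [Matrix.SpecialLinearGroup.coe_mul, Matrix.SpecialLinearGroup.coe_mul, h3, Matrix.mul_sub, Matrix.mul_neg,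
    Matrix.mul_one, h3, Matrix.SpecialLinearGroup.coe_one]
  abel

theorem qw_cube {a b : F} (h : a ^ 2 + b ^ 2 = -1) (h2 : (2 : F) ≠ 0) : qw h h2 ^ 3 = 1 := by
  rw [pow_succ', pow_two, qw_sq]

/-- `1, i, j, i j` -/
def base {a b : F} (h : a ^ 2 + b ^ 2 = -1) : Fin 4 → SL F := ![1, qi F, qj h, qi F * qj h]

theorem i_base {a b : F} (h : a ^ 2 + b ^ 2 = -1) (n : Fin 4) :
    ∃ m, qi F * base h n = base h m ∨ qi F * base h n = -base h m := by
  fin_cases n
  · exact ⟨1, Or.inl (mul_one _)⟩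
  · exact ⟨0, Or.inr qi_sq⟩
  · exact ⟨3, Or.inl rfl⟩
  · refine ⟨2, Or.inr ?_⟩
    show qi F * (qi F * qj h) = -qj h
    rw [← mul_assoc, qi_sq, neg_one_mul]

theorem j_base {a b : F} (h : a ^ 2 + b ^ 2 = -1) (n : Fin 4) :
    ∃ m, qj h * base h n = base h m ∨ qj h * base h n = -base h m := by
  fin_cases n
  · exact ⟨2, Or.inl (mul_one _)⟩
  · exact ⟨3, Or.inr (qji h)⟩
  · exact ⟨0, Or.inr (qj_sq h)⟩
  · refine ⟨1, Or.inl ?_⟩
    show qj h * (qi F * qj h) = qi F
    rw [← mul_assoc, qji, neg_mul, mul_assoc, qj_sq, mul_neg_one, neg_neg]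

theorem w_base {a b : F} (h : a ^ 2 + b ^ 2 = -1) (h2 : (2 : F) ≠ 0) (n : Fin 4) :
    ∃ m, qw h h2 * base h n = base h m * qw h h2 := by
  fin_cases n
  · exact ⟨0, (mul_one _).trans (one_mul _).symm⟩
  · exact ⟨2, qwi h h2⟩
  · exact ⟨3, qwj h h2⟩
  · refine ⟨1, ?_⟩
    show qw h h2 * (qi F * qj h) = qi F * qw h h2
    rw [← mul_assoc, qwi, mul_assoc, qwj, ← mul_assoc, ← mul_assoc, qji, neg_mul, mul_assoc (qi F), qj_sq,
      mul_neg_one, neg_neg]

/-- `⟨i, j, w⟩ ≅ SL₂(3)` -/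
def X3 {a b : F} (h : a ^ 2 + b ^ 2 = -1) (h2 : (2 : F) ≠ 0) : Subgroup (SL F) :=
  Subgroup.closure {qi F, qj h, qw h h2}

variable {a b : F} (h : a ^ 2 + b ^ 2 = -1) (h2 : (2 : F) ≠ 0)

theorem i_mem : qi F ∈ X3 h h2 := Subgroup.subset_closure (by simp)

theorem j_mem : qj h ∈ X3 h h2 := Subgroup.subset_closure (by simp)

theorem w_mem : qw h h2 ∈ X3 h h2 := Subgroup.subset_closure (by simp)

theorem neg_one_mem : (-1 : SL F) ∈ X3 h h2 := by
  rw [← qi_sq]
  exact mul_mem (i_mem h h2) (i_mem h h2)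

/-- the elements in normal form -/
def InS (x : SL F) : Prop := ∃ (n : Fin 4) (m : ℕ), x = base h n * qw h h2 ^ m ∨ x = -(base h n * qw h h2 ^ m)

variable {h h2} in
theorem InS.neg {x : SL F} (hx : InS h h2 x) : InS h h2 (-x) := by
  obtain ⟨n, m, hx | hx⟩ := hx
  · exact ⟨n, m, Or.inr (by rw [hx])⟩
  · exact ⟨n, m, Or.inl (by rw [hx, neg_neg])⟩

variable {h h2} in
theorem InS.imul {x : SL F} (hx : InS h h2 x) : InS h h2 (qi F * x) := by
  have key : ∀ (n : Fin 4) (m : ℕ), InS h h2 (qi F * (base h n * qw h h2 ^ m)) := by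
    intro n m
    obtain ⟨n', h1 | h1⟩ := i_base h n
    · exact ⟨n', m, Or.inl (by rw [← mul_assoc, h1])⟩
    · exact ⟨n', m, Or.inr (by rw [← mul_assoc, h1, neg_mul])⟩
  obtain ⟨n, m, hx | hx⟩ := hx
  · rw [hx]; exact key n m
  · rw [hx, mul_neg]; exact (key n m).neg

variable {h h2} in
theorem InS.jmul {x : SL F} (hx : InS h h2 x) : InS h h2 (qj h * x) := by
  have key : ∀ (n : Fin 4) (m : ℕ), InS h h2 (qj h * (base h n * qw h h2 ^ m)) := by
    intro n m
    obtain ⟨n', h1 | h1⟩ := j_base h n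
    · exact ⟨n', m, Or.inl (by rw [← mul_assoc, h1])⟩
    · exact ⟨n', m, Or.inr (by rw [← mul_assoc, h1, neg_mul])⟩
  obtain ⟨n, m, hx | hx⟩ := hx
  · rw [hx]; exact key n m
  · rw [hx, mul_neg]; exact (key n m).neg

variable {h h2} in
theorem InS.wmul {x : SL F} (hx : InS h h2 x) : InS h h2 (qw h h2 * x) := by
  have key : ∀ (n : Fin 4) (m : ℕ), InS h h2 (qw h h2 * (base h n * qw h h2 ^ m)) := by
    intro n m
    obtain ⟨n', h1⟩ := w_base h h2 n
    exact ⟨n', m + 1, Or.inl (by rw [← mul_assoc, h1, mul_assoc, pow_succ'])⟩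
  obtain ⟨n, m, hx | hx⟩ := hx
  · rw [hx]; exact key n m
  · rw [hx, mul_neg]; exact (key n m).neg

theorem inS_of_mem {x : SL F} (hx : x ∈ X3 h h2) : InS h h2 x := by
  have hi : ∀ y, InS h h2 y → InS h h2 ((qi F)⁻¹ * y) := by
    intro y hy
    have h1 : (qi F)⁻¹ = -qi F := by
      rw [inv_eq_iff_mul_eq_one, mul_neg, qi_sq, neg_neg]
    rw [h1, neg_mul]
    exact hy.imul.neg
  have hj : ∀ y, InS h h2 y → InS h h2 ((qj h)⁻¹ * y) := by
    intro y hy
    have h1 : (qj h)⁻¹ = -qj h := by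
      rw [inv_eq_iff_mul_eq_one, mul_neg, qj_sq, neg_neg]
    rw [h1, neg_mul]
    exact hy.jmul.neg
  have hw : ∀ y, InS h h2 y → InS h h2 ((qw h h2)⁻¹ * y) := by
    intro y hy
    have h1 : (qw h h2)⁻¹ = qw h h2 * qw h h2 := by
      rw [inv_eq_iff_mul_eq_one, qw_sq]
    rw [h1, mul_assoc]
    exact hy.wmul.wmul
  unfold X3 at hx
  induction hx using Subgroup.closure_induction_left with
  | one => exact ⟨0, 0, Or.inl (by simp [base])⟩
  | mul_left x hx y _ hy =>
    rcases hx with rfl | rfl | rfl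
    · exact hy.imul
    · exact hy.jmul
    · exact hy.wmul
  | inv_mul_cancel x hx y _ hy =>
    rcases hx with rfl | rfl | rfl
    · exact hi y hy
    · exact hj y hy
    · exact hw y hy

theorem card_le : Nat.card (X3 h h2) ≤ 24 ∧ Finite (X3 h h2) := by
  let f : Fin 4 × Bool × Fin 3 → SL F := fun t => if t.2.1 then base h t.1 * qw h h2 ^ (t.2.2 : ℕ) else
    -(base h t.1 * qw h h2 ^ (t.2.2 : ℕ))
  have h1 : (X3 h h2 : Set (SL F)) ⊆ Set.range f := by
    intro x hx
    obtain ⟨n, m, h3⟩ := inS_of_mem h h2 hx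
    have h4 : qw h h2 ^ m = qw h h2 ^ (m % 3) := by
      conv_lhs => rw [← Nat.div_add_mod m 3, pow_add, pow_mul, qw_cube, one_pow, one_mul]
    rw [h4] at h3
    rcases h3 with h3 | h3
    · exact ⟨(n, true, ⟨m % 3, Nat.mod_lt _ (by norm_num)⟩), h3.symm⟩
    · exact ⟨(n, false, ⟨m % 3, Nat.mod_lt _ (by norm_num)⟩), h3.symm⟩
  have h2' : (Set.range f).Finite := Set.finite_range f
  have h3 : Finite (X3 h h2) := (h2'.subset h1).to_subtype
  refine ⟨?_, h3⟩
  calc Nat.card (X3 h h2) = (X3 h h2 : Set (SL F)).ncard := rfl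
    _ ≤ (Set.range f).ncard := Set.ncard_le_ncard h1 h2'
    _ ≤ Nat.card (Fin 4 × Bool × Fin 3) := by
      rw [← Set.image_univ]
      exact (Set.ncard_image_le Set.finite_univ).trans (by rw [Set.ncard_univ])
    _ = 24 := by simp

instance finite_X3 : Finite (X3 h h2) := (card_le h h2).2

theorem neg_one_ne {F : Type u} [Field F] (h2 : (2 : F) ≠ 0) : (-1 : SL F) ≠ 1 := by
  intro h0
  have h1 := congrArg (fun A : SL F => (A : Matrix (Fin 2) (Fin 2) F) 0 0) h0
  simp only [Matrix.SpecialLinearGroup.coe_neg, Matrix.SpecialLinearGroup.coe_one, Matrix.neg_apply,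
    Matrix.one_apply_eq] at h1
  apply h2
  linear_combination -h1

include h2 in
theorem orderOf_qi : orderOf (qi F) = 4 := by
  have h0 : Fact (Nat.Prime 2) := ⟨Nat.prime_two⟩
  have h1 : orderOf (qi F) = 2 ^ (1 + 1) := orderOf_eq_prime_pow (by
    rw [pow_one, pow_two, qi_sq]
    exact neg_one_ne h2) (by
    rw [show 2 ^ (1 + 1) = 2 * 2 by norm_num, pow_mul, pow_two (qi F), qi_sq]
    exact neg_one_sq)
  rw [h1]
  norm_num

theorem trace_qw : Matrix.trace ((qw h h2 : SL F) : Matrix (Fin 2) (Fin 2) F) = -1 := by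
  rw [coe_qw, Matrix.trace_fin_two_of]
  field_simp
  ring

theorem qw_ne_one (h3 : (3 : F) ≠ 0) : qw h h2 ≠ 1 := by
  intro h0
  have h1 := trace_qw h h2
  rw [h0, Matrix.SpecialLinearGroup.coe_one, Matrix.trace_one, Fintype.card_fin] at h1
  apply h3
  push_cast at h1
  linear_combination h1

theorem orderOf_qw (h3 : (3 : F) ≠ 0) : orderOf (qw h h2) = 3 :=
  orderOf_eq_prime (hp := ⟨Nat.prime_three⟩) (qw_cube h h2) (qw_ne_one h h2 h3)

theorem twelve_dvd (h3 : (3 : F) ≠ 0) : 12 ∣ Nat.card (X3 h h2) := by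
  have h4 : 4 ∣ Nat.card (X3 h h2) := by
    rw [← orderOf_qi h2, ← Subgroup.orderOf_mk (qi F) (i_mem h h2)]
    exact orderOf_dvd_natCard _
  have h5 : 3 ∣ Nat.card (X3 h h2) := by
    rw [← orderOf_qw h h2 h3, ← Subgroup.orderOf_mk (qw h h2) (w_mem h h2)]
    exact orderOf_dvd_natCard _
  exact Nat.Coprime.mul_dvd_of_dvd_of_dvd (by norm_num) h4 h5

theorem card_dvd (h3 : (3 : F) ≠ 0) : Nat.card (X3 h h2) ∣ 24 := by
  obtain ⟨c, hc⟩ := twelve_dvd h h2 h3
  have h4 := (card_le h h2).1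
  have h5 : 0 < Nat.card (X3 h h2) := Nat.card_pos
  have h6 : c = 1 ∨ c = 2 := by omega
  rcases h6 with rfl | rfl
  · rw [hc]; norm_num
  · rw [hc]

/-- primes dividing `|X3|` -/
theorem prime_of_dvd (h3 : (3 : F) ≠ 0) {r : ℕ} (hr : r.Prime) (hd : r ∣ Nat.card (X3 h h2)) : r = 2 ∨ r = 3 := by
  have h4 : r ∣ 2 ^ 3 * 3 := by
    have := hd.trans (card_dvd h h2 h3)
    norm_num
    exact this
  rcases (Nat.Prime.dvd_mul hr).1 h4 with h5 | h5
  · left
    exact (Nat.prime_dvd_prime_iff_eq hr Nat.prime_two).1 (hr.dvd_of_dvd_pow h5)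
  · right
    exact (Nat.prime_dvd_prime_iff_eq hr Nat.prime_three).1 h5

/-- conjugation by `w` -/
theorem w_conj_i : qw h h2 * qi F * (qw h h2)⁻¹ = qj h := by
  rw [qwi, mul_inv_cancel_right]

theorem w_conj_j : qw h h2 * qj h * (qw h h2)⁻¹ = qi F * qj h := by
  rw [qwj, mul_inv_cancel_right]

/-- a subgroup containing `w` and `w ^ i` and `w ^ j` contains `X3` -/
theorem X3_le {K : Subgroup (SL F)} (h1 : qw h h2 ∈ K) (h3 : qi F * qw h h2 * (qi F)⁻¹ ∈ K) : X3 h h2 ≤ K := by
  have hij : qi F * qj h ∈ K := by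
    have h4 : qw h h2 * (qi F * qw h h2 * (qi F)⁻¹)⁻¹ = qi F * qj h := by
      have h5 : (qi F)⁻¹ = -qi F := by
        rw [inv_eq_iff_mul_eq_one, mul_neg, qi_sq, neg_neg]
      rw [_root_.mul_inv_rev, _root_.mul_inv_rev, inv_inv, ← mul_assoc, ← mul_assoc, w_conj_i, h5, mul_neg, qji, neg_neg]
    rw [← h4]
    exact mul_mem h1 (inv_mem h3)
  have hi : qi F ∈ K := by
    have h4 : qw h h2 * (qi F * qj h) * (qw h h2)⁻¹ = qi F := by
      have h5 : qw h h2 * (qi F * qj h) = qi F * qw h h2 := by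
        rw [← mul_assoc, qwi, mul_assoc, qwj, ← mul_assoc, ← mul_assoc, qji, neg_mul, mul_assoc (qi F), qj_sq,
          mul_neg_one, neg_neg]
      rw [h5, mul_inv_cancel_right]
    rw [← h4]
    exact mul_mem (mul_mem h1 hij) (inv_mem h1)
  have hj : qj h ∈ K := by
    rw [← w_conj_i h h2]
    exact mul_mem (mul_mem h1 hi) (inv_mem h1)
  unfold X3
  rw [Subgroup.closure_le]
  rintro x (rfl | rfl | rfl)
  · exact hi
  · exact hj
  · exact h1

/-- the elements of order three generate `X3` -/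
theorem closure_order_three (h3 : (3 : F) ≠ 0) :
    Subgroup.closure {x : SL F | x ∈ X3 h h2 ∧ orderOf x = 3} = X3 h h2 := by
  apply le_antisymm
  · rw [Subgroup.closure_le]
    exact fun x hx => hx.1
  · have h4 := orderOf_qw h h2 h3
    refine X3_le h h2 (Subgroup.subset_closure ⟨w_mem h h2, h4⟩) (Subgroup.subset_closure
      ⟨mul_mem (mul_mem (i_mem h h2) (w_mem h h2)) (inv_mem (i_mem h h2)), ?_⟩)
    have h5 : qi F * qw h h2 * (qi F)⁻¹ = MulAut.conj (qi F) (qw h h2) := rfl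
    rw [h5, MulEquiv.orderOf_eq, h4]

/-- `-x` has order six if `x` has order three -/
theorem orderOf_neg_six {x : SL F} (h2 : (2 : F) ≠ 0) (hx : orderOf x = 3) : orderOf (-x) = 6 := by
  have h4 : orderOf (-1 : SL F) = 2 := orderOf_eq_prime (hp := ⟨Nat.prime_two⟩) neg_one_sq (neg_one_ne h2)
  have h5 : Commute (-1 : SL F) x := by
    show -1 * x = x * -1
    rw [neg_one_mul, mul_neg_one]
  have h6 := h5.orderOf_mul_eq_mul_orderOf_of_coprime (by rw [h4, hx]; norm_num)
  rw [neg_one_mul, h4, hx] at h6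
  exact h6

/-- the elements of order six generate `X3` -/
theorem closure_order_six (h3 : (3 : F) ≠ 0) :
    Subgroup.closure {x : SL F | x ∈ X3 h h2 ∧ orderOf x = 6} = X3 h h2 := by
  apply le_antisymm
  · rw [Subgroup.closure_le]
    exact fun x hx => hx.1
  · have key : ∀ x ∈ X3 h h2, orderOf x = 3 → x ∈ Subgroup.closure {x : SL F | x ∈ X3 h h2 ∧ orderOf x = 6} := by
      intro x hx h4
      have h5 : -x ∈ Subgroup.closure {x : SL F | x ∈ X3 h h2 ∧ orderOf x = 6} := by
        refine Subgroup.subset_closure ⟨?_, orderOf_neg_six h2 h4⟩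
        rw [← neg_one_mul]
        exact mul_mem (neg_one_mem h h2) hx
      have h6 : (-x) ^ 4 = x := by
        have h7 : x ^ 4 = x := by
          rw [pow_succ, ← h4, pow_orderOf_eq_one, one_mul]
        rw [Even.neg_pow (by decide), h7]
      rw [← h6]
      exact pow_mem h5 4
    conv_lhs => rw [← closure_order_three h h2 h3]
    rw [Subgroup.closure_le]
    exact fun x hx => key x hx.1 hx.2

/-- **What commutes with `X3` is `±1`.** -/
theorem eq_of_comm {A : SL F} (hA : ∀ g ∈ X3 h h2, A * g = g * A) : A = 1 ∨ A = -1 := by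
  have h1 := congrArg (fun B : SL F => (B : Matrix (Fin 2) (Fin 2) F)) (hA _ (i_mem h h2))
  have h3 := congrArg (fun B : SL F => (B : Matrix (Fin 2) (Fin 2) F)) (hA _ (j_mem h h2))
  have hd := A.det_coe
  simp only [Matrix.SpecialLinearGroup.coe_mul, coe_qi, coe_qj] at h1 h3
  rw [Matrix.det_fin_two] at hd
  suffices h0 : (A : Matrix (Fin 2) (Fin 2) F) = 1 ∨ (A : Matrix (Fin 2) (Fin 2) F) = -1 by
    rcases h0 with h0 | h0
    · left
      apply ext'
      rw [h0, Matrix.SpecialLinearGroup.coe_one]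
    · right
      apply ext'
      rw [h0, Matrix.SpecialLinearGroup.coe_neg, Matrix.SpecialLinearGroup.coe_one]
  generalize (A : Matrix (Fin 2) (Fin 2) F) = M at *
  have e1 := congrFun (congrFun h1 0) 0
  have e2 := congrFun (congrFun h1 0) 1
  have e3 := congrFun (congrFun h3 0) 0
  have e4 := congrFun (congrFun h3 0) 1
  simp [Matrix.mul_apply, Fin.sum_univ_two] at e1 e2 e3 e4
  -- e1 : M 1 0 = - M 0 1, e2 : M 0 0 = M 1 1
  have hy : M 0 1 = 0 := by
    have h5 : 2 * b * M 0 1 = 0 := by linear_combination e3 - b * e1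
    have h6 : 2 * a * M 0 1 = 0 := by
      linear_combination -e4 + b * e2
    have h7 : 2 * M 0 1 = 0 := by
      linear_combination (-b) * h5 + (-a) * h6 + (2 * M 0 1) * h
    rcases mul_eq_zero.1 h7 with h8 | h8
    · exact absurd h8 h2
    · exact h8
  have hx : M 1 0 = 0 := by linear_combination -e1 - hy
  have hz : M 0 0 = M 1 1 := by linear_combination e2
  have h9 : (M 0 0 - 1) * (M 0 0 + 1) = 0 := by
    linear_combination hd + M 0 0 * hz + M 0 1 * hx
  rcases mul_eq_zero.1 h9 with h10 | h10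
  · left
    ext x y
    fin_cases x <;> fin_cases y <;> simp [hy, hx] <;> (first | linear_combination h10 | linear_combination h10 - hz)
  · right
    ext x y
    fin_cases x <;> fin_cases y <;> simp [hy, hx] <;> (first | linear_combination h10 | linear_combination h10 - hz)

end Defs

/-- the parameters exist over every field of prime characteristic -/
theorem exists_ab (F : Type u) [Field F] (p : ℕ) [Fact p.Prime] [CharP F p] : ∃ a b : F, a ^ 2 + b ^ 2 = -1 := by
  have : NeZero p := ⟨(Fact.out : p.Prime).ne_zero⟩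
  obtain ⟨a, b, h⟩ := CharP.sq_add_sq F p (-1)
  exact ⟨a, b, by rw [h]; norm_cast⟩

section Map

variable {F : Type u} [Field F] {K : Type v} [Field K] {a b : F} (h : a ^ 2 + b ^ 2 = -1) (h2 : (2 : F) ≠ 0)
  (f : F →+* K)

theorem map_qi : Matrix.SpecialLinearGroup.map f (qi F) = qi K := by
  apply ext'
  rw [Matrix.SpecialLinearGroup.map_apply_coe, coe_qi, coe_qi]
  ext x y
  fin_cases x <;> fin_cases y <;> simp

theorem map_qj (h' : f a ^ 2 + f b ^ 2 = -1) : Matrix.SpecialLinearGroup.map f (qj h) = qj h' := by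
  apply ext'
  rw [Matrix.SpecialLinearGroup.map_apply_coe, coe_qj, coe_qj]
  ext x y
  fin_cases x <;> fin_cases y <;> simp

theorem map_qw (h' : f a ^ 2 + f b ^ 2 = -1) (h2' : (2 : K) ≠ 0) :
    Matrix.SpecialLinearGroup.map f (qw h h2) = qw h' h2' := by
  apply ext'
  have h4 : f 2 = 2 := map_ofNat f 2
  rw [Matrix.SpecialLinearGroup.map_apply_coe, coe_qw, coe_qw]
  ext x y
  fin_cases x <;> fin_cases y <;> simp [h4]

include h in
theorem map_eq : f a ^ 2 + f b ^ 2 = -1 := by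
  rw [← map_pow, ← map_pow, ← map_add, h, map_neg, map_one]

include h2 f in
theorem map_two : (2 : K) ≠ 0 := by
  intro h0
  apply h2
  apply f.injective
  rw [map_zero, ← h0]
  exact map_ofNat f 2

/-- **Field embeddings.** -/
theorem map_X3 : (X3 h h2).map (Matrix.SpecialLinearGroup.map f) = X3 (map_eq h f) (map_two h2 f) := by
  unfold X3
  rw [MonoidHom.map_closure]
  congr 1
  rw [Set.image_insert_eq, Set.image_insert_eq, Set.image_singleton, map_qi, map_qj h f (map_eq h f),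
    map_qw h h2 f (map_eq h f) (map_two h2 f)]

end Map

section Conj

variable {k : Type u} [Field k]

/-- Cayley-Hamilton -/
theorem sq_eq (A : SL k) : (A : Matrix (Fin 2) (Fin 2) k) * A =
    Matrix.trace (A : Matrix (Fin 2) (Fin 2) k) • (A : Matrix (Fin 2) (Fin 2) k) - 1 := by
  have hd := A.det_coe
  rw [Matrix.det_fin_two] at hd
  generalize (A : Matrix (Fin 2) (Fin 2) k) = M at *
  rw [Matrix.trace_fin_two]
  ext x y
  fin_cases x <;> fin_cases y <;> simp [Matrix.mul_apply, Fin.sum_univ_two] <;>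
    (first | ring1 | linear_combination -hd)

/-- the only involution -/
theorem eq_neg_one {A : SL k} (h2 : (2 : k) ≠ 0) (h : A ^ 2 = 1) (h1 : A ≠ 1) : A = -1 := by
  have h3 := sq_eq A
  have h4 : (A : Matrix (Fin 2) (Fin 2) k) * A = 1 := by
    rw [← Matrix.SpecialLinearGroup.coe_mul, ← pow_two, h, Matrix.SpecialLinearGroup.coe_one]
  rw [h4] at h3
  set t := Matrix.trace (A : Matrix (Fin 2) (Fin 2) k) with ht
  have h5 : t • (A : Matrix (Fin 2) (Fin 2) k) = (2 : k) • (1 : Matrix (Fin 2) (Fin 2) k) := by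
    rw [two_smul]
    exact (eq_sub_iff_add_eq.1 h3).symm
  have ht0 : t ≠ 0 := by
    intro h0
    rw [h0, zero_smul] at h5
    have h6 := congrFun (congrFun h5 0) 0
    simp at h6
    exact h2 h6.symm
  have h6 : (A : Matrix (Fin 2) (Fin 2) k) = (t⁻¹ * 2) • (1 : Matrix (Fin 2) (Fin 2) k) := by
    rw [mul_smul, ← h5, smul_smul, inv_mul_cancel₀ ht0, one_smul]
  have h7 : (t⁻¹ * 2) * (t⁻¹ * 2) = 1 := by
    rw [h6] at h4
    have h8 := congrFun (congrFun h4 0) 0
    simpa [Matrix.mul_apply, Fin.sum_univ_two] using h8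
  rcases mul_self_eq_one_iff.1 h7 with h8 | h8
  · exfalso
    apply h1
    apply ext'
    rw [h6, h8, one_smul, Matrix.SpecialLinearGroup.coe_one]
  · apply ext'
    rw [h6, h8, neg_one_smul, Matrix.SpecialLinearGroup.coe_neg, Matrix.SpecialLinearGroup.coe_one]

/-- the cube of an element of order six -/
theorem cube_eq {A : SL k} (h2 : (2 : k) ≠ 0) (h : orderOf A = 6) : A ^ 3 = -1 := by
  refine eq_neg_one h2 ?_ fun h0 => ?_
  · rw [← pow_mul, show 3 * 2 = orderOf A by rw [h], pow_orderOf_eq_one]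
  · have h3 := orderOf_dvd_of_pow_eq_one h0
    rw [h] at h3
    omega

/-- the trace of an element of order six -/
theorem trace_eq {A : SL k} (h2 : (2 : k) ≠ 0) (h : orderOf A = 6) :
    Matrix.trace (A : Matrix (Fin 2) (Fin 2) k) = 1 := by
  have h1 := cube_eq h2 h
  have h3 := sq_eq A
  set t := Matrix.trace (A : Matrix (Fin 2) (Fin 2) k) with ht
  have h4 : (A : Matrix (Fin 2) (Fin 2) k) * ((A : Matrix (Fin 2) (Fin 2) k) * A) = -1 := by
    rw [← Matrix.SpecialLinearGroup.coe_mul, ← Matrix.SpecialLinearGroup.coe_mul, ← pow_two, ← pow_succ', h1,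
      Matrix.SpecialLinearGroup.coe_neg, Matrix.SpecialLinearGroup.coe_one]
  rw [h3, Matrix.mul_sub, Matrix.mul_smul, h3, Matrix.mul_one] at h4
  have h5 : (t ^ 2 - 1) • (A : Matrix (Fin 2) (Fin 2) k) = (t - 1) • (1 : Matrix (Fin 2) (Fin 2) k) := by
    rw [smul_sub, smul_smul] at h4
    rw [sub_smul, sub_smul, one_smul, one_smul, pow_two]
    have h6 := eq_neg_iff_add_eq_zero.1 h4
    rw [← sub_eq_zero]
    rw [← h6]
    abel
  by_cases h6 : t ^ 2 - 1 = 0
  · rw [h6, zero_smul] at h5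
    have h7 := congrFun (congrFun h5 0) 0
    simp at h7
    linear_combination -h7
  · exfalso
    have h7 : (A : Matrix (Fin 2) (Fin 2) k) = ((t ^ 2 - 1)⁻¹ * (t - 1)) • (1 : Matrix (Fin 2) (Fin 2) k) := by
      rw [mul_smul, ← h5, smul_smul, inv_mul_cancel₀ h6, one_smul]
    have hd := A.det_coe
    rw [h7, Matrix.det_smul, Matrix.det_one, mul_one, Fintype.card_fin] at hd
    have h8 : A ^ 2 = 1 := by
      apply ext'
      rw [Matrix.SpecialLinearGroup.coe_pow, h7, smul_pow, one_pow, hd, one_smul, Matrix.SpecialLinearGroup.coe_one]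
    have h9 := orderOf_dvd_of_pow_eq_one h8
    rw [h] at h9
    omega

/-- **Elements of order six are diagonalisable.** -/
theorem exists_conj_hS [IsAlgClosed k] (h2 : (2 : k) ≠ 0) (h3 : (3 : k) ≠ 0) {A : SL k} (h : orderOf A = 6) :
    ∃ (P : SL k) (ζ : k), ζ ^ 2 - ζ + 1 = 0 ∧ A = P * hS ζ * P⁻¹ := by
  -- a root
  obtain ⟨s, hs⟩ := IsAlgClosed.exists_pow_nat_eq (-3 : k) (show 0 < 2 by norm_num)
  have hs0 : s ≠ 0 := by
    rintro rfl
    apply h3
    linear_combination hs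
  set ζ : k := (1 + s) / 2 with hζ
  have hz : ζ ^ 2 - ζ + 1 = 0 := by
    rw [hζ]
    field_simp
    linear_combination hs
  have hz0 : ζ ≠ 0 := by
    intro h0
    rw [h0] at hz
    norm_num at hz
  have hzi : ζ⁻¹ = 1 - ζ := by
    rw [inv_eq_iff_eq_inv, ← eq_comm]
    refine inv_eq_of_mul_eq_one_right ?_
    linear_combination -hz
  have hne : ζ - (1 - ζ) ≠ 0 := by
    have : ζ - (1 - ζ) = s := by rw [hζ]; field_simp; ring
    rw [this]
    exact hs0
  have ht := trace_eq h2 h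
  have hd := A.det_coe
  rw [Matrix.det_fin_two] at hd
  rw [Matrix.trace_fin_two] at ht
  -- it is enough to find `P`
  suffices H : ∃ (P : SL k) (ζ : k), ζ ^ 2 - ζ + 1 = 0 ∧ ζ ≠ 0 ∧ (A : Matrix (Fin 2) (Fin 2) k) * P =
      P * !![ζ, 0; 0, ζ⁻¹] by
    obtain ⟨P, ζ, h4, h5, h6⟩ := H
    refine ⟨P, ζ, h4, eq_mul_inv_of_mul_eq (ext' ?_)⟩
    rw [Matrix.SpecialLinearGroup.coe_mul, Matrix.SpecialLinearGroup.coe_mul, coe_hS h5, h6]
  generalize (A : Matrix (Fin 2) (Fin 2) k) = M at *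
  by_cases hq : M 0 1 = 0
  · by_cases hr : M 1 0 = 0
    · -- diagonal
      have hp : M 0 0 ^ 2 - M 0 0 + 1 = 0 := by
        linear_combination -hd + M 0 0 * ht - M 0 1 * hr
      have hp0 : M 0 0 ≠ 0 := by
        intro h0
        rw [h0] at hp
        norm_num at hp
      have hpi : (M 0 0)⁻¹ = M 1 1 := by
        refine inv_eq_of_mul_eq_one_right ?_
        linear_combination hd + M 0 1 * hr
      refine ⟨1, M 0 0, hp, hp0, ?_⟩
      rw [hpi, Matrix.SpecialLinearGroup.coe_one, Matrix.mul_one, Matrix.one_mul]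
      ext x y
      fin_cases x <;> fin_cases y <;> simp [hq, hr]
    · -- eigenvectors `(ζ - s, r)`
      obtain ⟨P, hP⟩ : ∃ P : SL k, (P : Matrix (Fin 2) (Fin 2) k) =
          !![ζ - M 1 1, ((1 - ζ) - M 1 1) / (M 1 0 * (ζ - (1 - ζ))); M 1 0, M 1 0 / (M 1 0 * (ζ - (1 - ζ)))] := by
        refine ⟨⟨_, ?_⟩, rfl⟩
        rw [Matrix.det_fin_two_of]
        field_simp
        ring
      refine ⟨P, ζ, hz, hz0, ?_⟩
      rw [hP, hzi]
      ext x y
      fin_cases x <;> fin_cases y <;> simp [Matrix.mul_apply, Fin.sum_univ_two, hq] <;> field_simp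
      · linear_combination ζ * ht - hd - M 1 0 * hq - hz
      · linear_combination (1 - ζ) * ht - hd - M 1 0 * hq - hz
      · ring
      · ring
  · obtain ⟨P, hP⟩ : ∃ P : SL k, (P : Matrix (Fin 2) (Fin 2) k) =
        !![M 0 1, M 0 1 / (M 0 1 * ((1 - ζ) - ζ)); ζ - M 0 0, ((1 - ζ) - M 0 0) / (M 0 1 * ((1 - ζ) - ζ))] := by
      have hne' : (1 - ζ) - ζ ≠ 0 := by
        intro h0
        apply hne
        linear_combination -h0
      refine ⟨⟨_, ?_⟩, rfl⟩
      rw [Matrix.det_fin_two_of]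
      field_simp
      ring
    refine ⟨P, ζ, hz, hz0, ?_⟩
    rw [hP, hzi]
    ext x y
    fin_cases x <;> fin_cases y <;> simp [Matrix.mul_apply, Fin.sum_univ_two, hq] <;> field_simp
    · ring
    · congr 1
      ring
    · linear_combination ζ * ht - hd - hz
    · congr 1
      linear_combination (1 - ζ) * ht - hd - hz

end Conj

section Dickson

variable {k : Type u} [Field k] {a b : k} (h : a ^ 2 + b ^ 2 = -1) (h2 : (2 : k) ≠ 0)

include h h2 in
/-- the centre of `SL₂` -/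
theorem eq_of_mem_center {z : SL k} (hz : z ∈ Subgroup.center (SL k)) : z = 1 ∨ z = -1 :=
  eq_of_comm h h2 fun g _ => (Subgroup.mem_center_iff.1 hz g).symm

include h2 in
/-- `i` is not `± j` -/
theorem i_ne : qi k ≠ qj h ∧ qi k ≠ -qj h := by
  constructor
  · intro h0
    have h1 := congrArg (fun B : SL k => (B : Matrix (Fin 2) (Fin 2) k)) h0
    simp only [coe_qi, coe_qj] at h1
    have h3 := congrFun (congrFun h1 0) 1
    have h4 := congrFun (congrFun h1 1) 0
    simp at h3 h4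
    apply h2
    linear_combination h3 - h4
  · intro h0
    have h1 := congrArg (fun B : SL k => (B : Matrix (Fin 2) (Fin 2) k)) h0
    simp only [coe_qi, coe_qj, Matrix.SpecialLinearGroup.coe_neg] at h1
    have h3 := congrFun (congrFun h1 0) 1
    have h4 := congrFun (congrFun h1 1) 0
    simp at h3 h4
    apply h2
    linear_combination h3 + h4

/-- `i` and `w` do not commute up to sign -/
theorem not_comm : qi k * qw h h2 ≠ qw h h2 * qi k ∧ qi k * qw h h2 ≠ -(qw h h2 * qi k) := by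
  rw [qwi]
  constructor
  · intro h0
    exact (i_ne h h2).1 (mul_right_cancel h0)
  · intro h0
    rw [← neg_mul] at h0
    exact (i_ne h h2).2 (mul_right_cancel h0)

theorem ij_sq : (qi k * qj h) * (qi k * qj h) = -1 := by
  rw [mul_assoc, ← mul_assoc (qj h), qji, neg_mul, mul_assoc, qj_sq, mul_neg_one, neg_neg, qi_sq]

/-- `i` does not invert `w` up to sign -/
theorem not_inv : qw h h2 * (qi k * qw h h2) ≠ qi k ∧ qw h h2 * (qi k * qw h h2) ≠ -qi k := by
  have key : ∀ y : SL k, (y = qi k ∨ y = -qi k) → qw h h2 * (qi k * qw h h2) ≠ y := by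
    intro y hy h0
    rw [← mul_assoc, qwi, mul_assoc] at h0
    -- `j w ^ 2 = ± i`, so `w ^ 2 = ± i j`
    have hj : (qj h)⁻¹ = -qj h := by
      rw [inv_eq_iff_mul_eq_one, mul_neg, qj_sq, neg_neg]
    have h4 : qw h h2 * qw h h2 = -qj h * y := by
      rw [← hj, ← h0, inv_mul_cancel_left]
    have h5 : (-qj h * y) * (-qj h * y) = -1 := by
      rcases hy with rfl | rfl
      · rw [neg_mul, qji, neg_neg, ij_sq]
      · rw [neg_mul_neg, qji, neg_mul_neg, ij_sq]
    rw [← h4] at h5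
    have h6 : qw h h2 = -1 := by
      rw [← h5]
      rw [mul_assoc, qw_sq, mul_one]
    have h7 := qw_cube h h2
    rw [h6] at h7
    have h8 : (-1 : SL k) ^ 3 = -1 := Odd.neg_one_pow (by decide)
    exact neg_one_ne h2 (h8.symm.trans h7)
  exact ⟨key _ (Or.inl rfl), key _ (Or.inr rfl)⟩

/-- `w` is not `± 1` -/
theorem w_ne (h3 : (3 : k) ≠ 0) : qw h h2 ≠ 1 ∧ qw h h2 ≠ -1 := by
  refine ⟨qw_ne_one h h2 h3, fun h6 => ?_⟩
  have h7 := qw_cube h h2
  rw [h6] at h7
  have h8 : (-1 : SL k) ^ 3 = -1 := Odd.neg_one_pow (by decide)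
  exact neg_one_ne h2 (h8.symm.trans h7)

/-- the quotient by `± 1`, with Dickson's list -/
theorem exists_quot [IsAlgClosed k] (p : ℕ) [Fact p.Prime] [CharP k p] :
    ∃ (H : Type u) (_ : Group H) (π : SL k →* H), (∀ x : SL k, π x = 1 → x ∈ Subgroup.center (SL k)) ∧
      ∀ Γ : Subgroup H, Finite Γ → ¬ p ∣ Nat.card Γ →
        IsCyclic Γ ∨ (∃ n : ℕ, 2 ≤ n ∧ Nonempty (Γ ≃* DihedralGroup n)) ∨
        Nonempty (Γ ≃* alternatingGroup (Fin 4)) ∨ Nonempty (Γ ≃* Equiv.Perm (Fin 4)) ∨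
        Nonempty (Γ ≃* alternatingGroup (Fin 5)) :=
  ⟨Matrix.ProjectiveSpecialLinearGroup (Fin 2) k, inferInstance, QuotientGroup.mk' (Subgroup.center (SL k)),
    fun x hx => (QuotientGroup.eq_one_iff x).1 hx, fun Γ _ hp => H717.Dickson.tame p Γ hp⟩

/-- in a dihedral group an element of order three is centralised or inverted by everything -/
theorem dihedral_cases {n : ℕ} (x y : DihedralGroup n) (h1 : x ^ 3 = 1) (h2 : x ≠ 1) : y * x = x * y ∨
    x * (y * x) = y := by
  rcases x with c | c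
  · rcases y with d | d
    · left
      rw [DihedralGroup.r_mul_r, DihedralGroup.r_mul_r, add_comm]
    · right
      rw [DihedralGroup.sr_mul_r, DihedralGroup.r_mul_sr, add_sub_cancel_right]
  · exfalso
    have h3 : DihedralGroup.sr c ^ 2 = 1 := by
      rw [pow_two, DihedralGroup.sr_mul_sr, sub_self]
      rfl
    rw [pow_succ, h3, one_mul] at h1
    exact h2 h1

theorem card_a4 : Nat.card (alternatingGroup (Fin 4)) = 12 := by
  rw [nat_card_alternatingGroup, Nat.card_eq_fintype_card, Fintype.card_fin]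
  rfl

theorem card_s4 : Nat.card (Equiv.Perm (Fin 4)) = 24 := by
  rw [Nat.card_perm, Nat.card_eq_fintype_card, Fintype.card_fin]
  rfl

theorem card_a5 : Nat.card (alternatingGroup (Fin 5)) = 60 := by
  rw [nat_card_alternatingGroup, Nat.card_eq_fintype_card, Fintype.card_fin]
  rfl

/-- **Finite `p'`-subgroups containing `X3` have Sylow `3`-subgroups of order three.** -/
theorem card_three_dvd [IsAlgClosed k] (p : ℕ) [Fact p.Prime] [CharP k p] (h3 : (3 : k) ≠ 0) (Γ : Subgroup (SL k))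
    [Finite Γ] (hp : ¬ p ∣ Nat.card Γ) (hX : X3 h h2 ≤ Γ) (Q : Subgroup (SL k)) (hQ : Q ≤ Γ) (hQ3 : IsPGroup 3 Q) :
    Nat.card Q ∣ 3 := by
  haveI : Finite Q := Finite.of_injective _ (Subgroup.inclusion_injective hQ)
  obtain ⟨H, hH, π, hker0, htame⟩ := exists_quot (k := k) p
  have hker : ∀ x : SL k, π x = 1 → x = 1 ∨ x = -1 := fun x hx => eq_of_mem_center h h2 (hker0 x hx)
  have hmk : ∀ x y : SL k, π x = π y → y = x ∨ y = -x := by
    intro x y hxy
    have h4 : π (x⁻¹ * y) = 1 := by rw [map_mul, map_inv, hxy, inv_mul_cancel]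
    rcases hker _ h4 with h5 | h5
    · left; rw [inv_mul_eq_one] at h5; exact h5.symm
    · right; rw [inv_mul_eq_iff_eq_mul, mul_neg_one] at h5; exact h5
  have hfin : Finite (Γ.map π) := Finite.of_surjective _ (π.subgroupMap_surjective Γ)
  have hdvd : Nat.card (Γ.map π) ∣ Nat.card Γ := Subgroup.card_dvd_of_surjective _ (π.subgroupMap_surjective Γ)
  -- `Q` embeds in the quotient
  have hQΓ : Nat.card Q ∣ Nat.card (Γ.map π) := by
    have h4 : ∀ x : Q, π x = 1 → x = 1 := by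
      intro x hx
      rcases hker _ hx with h5 | h5
      · exact Subtype.ext h5
      · exfalso
        obtain ⟨n, hn⟩ := hQ3 x
        have h6 : (x : SL k) ^ 3 ^ n = 1 := congrArg Subtype.val hn
        rw [h5, Odd.neg_one_pow (Odd.pow (by decide))] at h6
        exact neg_one_ne h2 h6
    have h5 : Nat.card (Q.map π) = Nat.card Q := by
      refine (Nat.card_congr (Equiv.ofBijective (π.subgroupMap Q) ⟨?_, π.subgroupMap_surjective Q⟩)).symm
      rw [injective_iff_map_eq_one]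
      intro x hx
      exact h4 x (congrArg Subtype.val hx)
    rw [← h5]
    exact Subgroup.card_dvd_of_le (Subgroup.map_mono hQ)
  have hi : π (qi k) ∈ Γ.map π := Subgroup.mem_map_of_mem π (hX (i_mem h h2))
  have hw : π (qw h h2) ∈ Γ.map π := Subgroup.mem_map_of_mem π (hX (w_mem h h2))
  have hfinal : Nat.card (Γ.map π) ∣ 120 → Nat.card Q ∣ 3 := by
    intro h4
    obtain ⟨n, hn⟩ := (IsPGroup.iff_card (p := 3)).1 hQ3
    have h5 : 3 ^ n ∣ 120 := hn ▸ hQΓ.trans h4
    rw [hn]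
    have h6 : n < 2 := by
      by_contra h7
      have h8 : 3 ^ 2 ∣ 120 := (pow_dvd_pow 3 (not_lt.1 h7)).trans h5
      norm_num at h8
    interval_cases n <;> norm_num
  rcases htame (Γ.map π) hfin (fun h4 => hp (h4.trans hdvd)) with hc | ⟨m, hm, ⟨e⟩⟩ | ⟨⟨e⟩⟩ | ⟨⟨e⟩⟩ | ⟨⟨e⟩⟩
  · exfalso
    letI := hc.commGroup
    have h4 : (⟨π (qi k), hi⟩ : Γ.map π) * ⟨π (qw h h2), hw⟩ = ⟨π (qw h h2), hw⟩ * ⟨π (qi k), hi⟩ := mul_comm _ _
    have h5 : π (qw h h2 * qi k) = π (qi k * qw h h2) := by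
      rw [map_mul, map_mul]
      exact (congrArg Subtype.val h4).symm
    rcases hmk _ _ h5 with h6 | h6
    · exact (not_comm h h2).1 h6
    · exact (not_comm h h2).2 h6
  · exfalso
    set x : Γ.map π := ⟨π (qw h h2), hw⟩ with hx
    set y : Γ.map π := ⟨π (qi k), hi⟩ with hy
    have hx3 : x ^ 3 = 1 := by
      apply Subtype.ext
      show π (qw h h2) ^ 3 = 1
      rw [← map_pow, qw_cube, map_one]
    have hx1 : x ≠ 1 := by
      intro h4
      have h5 : π (qw h h2) = 1 := congrArg Subtype.val h4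
      rcases hker _ h5 with h6 | h6
      · exact (w_ne h h2 h3).1 h6
      · exact (w_ne h h2 h3).2 h6
    rcases dihedral_cases (e x) (e y) (by rw [← map_pow, hx3, map_one])
      (fun h4 => hx1 ((MulEquiv.map_eq_one_iff e).1 h4)) with h4 | h4
    · rw [← map_mul, ← map_mul] at h4
      have h5 : π (qw h h2 * qi k) = π (qi k * qw h h2) := by
        rw [map_mul, map_mul]
        exact (congrArg Subtype.val (e.injective h4)).symm
      rcases hmk _ _ h5 with h6 | h6
      · exact (not_comm h h2).1 h6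
      · exact (not_comm h h2).2 h6
    · rw [← map_mul, ← map_mul] at h4
      have h5 : π (qi k) = π (qw h h2 * (qi k * qw h h2)) := by
        rw [map_mul, map_mul]
        exact (congrArg Subtype.val (e.injective h4)).symm
      rcases hmk _ _ h5 with h6 | h6
      · exact (not_inv h h2).1 h6
      · exact (not_inv h h2).2 h6
  · exact hfinal (by rw [Nat.card_congr e.toEquiv, card_a4]; norm_num)
  · exact hfinal (by rw [Nat.card_congr e.toEquiv, card_s4]; norm_num)
  · exact hfinal (by rw [Nat.card_congr e.toEquiv, card_a5]; norm_num)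

end Dickson

end Cfsg.Agent.H836.RV
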